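import Groth.Agent.UnipCountLib.Twist
import Groth.Agent.StackCountLib.GalCount
import Groth.Agent.LangGenLib.Pts

/-!
# Compatible cocycles of a semidirect product with a connected unipotent group
-/

set_option autoImplicit false
set_option linter.all false
set_option backward.isDefEq.respectTransparency false
set_option backward.isDefEq.respectTransparency.types false
set_option maxHeartbeats 1000000
set_option synthInstance.maxHeartbeats 400000

noncomputable section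

universe u

open CategoryTheory CategoryTheory.Limits MonoidalCategory CartesianMonoidalCategory MonObj AlgebraicGeometry
open Groth.Agent

attribute [-instance] CategoryTheory.Hom.commGroup

namespace UnipCountLib

variable {k : Type u} [Field k]

/-- The projection of a semidirect product. -/
theorem exists_proj {G H U : Over (Spec (CommRingCat.of k))} [GrpObj G] [GrpObj H] [GrpObj U] (iH : H ⟶ G)
    (iU : U ⟶ G) [IsMonHom iH] [IsMonHom iU] [Mono iU] (hUn : AlgGrp.IsNormalHom iU)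
    (hsd : IsIso ((fst H U ≫ iH) * (snd H U ≫ iU))) :
    ∃ (π : G ⟶ H) (_ : IsMonHom π) (ρ : G ⟶ U),
      (∀ {T : Over (Spec (CommRingCat.of k))} (g : T ⟶ G), ((g ≫ π) ≫ iH) * ((g ≫ ρ) ≫ iU) = g) ∧
      iH ≫ π = 𝟙 H ∧ iU ≫ π = 1 ∧
      (∀ {T : Over (Spec (CommRingCat.of k))} (h : T ⟶ H) (u : T ⟶ U), ((h ≫ iH) * (u ≫ iU)) ≫ π = h ∧
        ((h ≫ iH) * (u ≫ iU)) ≫ ρ = u) ∧
      IsPullback (fst G U) ((G ◁ iU) ≫ μ[G]) π π := by
  haveI := hsd
  let m := (fst H U ≫ iH) * (snd H U ≫ iU)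
  let π : G ⟶ H := inv m ≫ fst H U
  let ρ : G ⟶ U := inv m ≫ snd H U
  have hm : ∀ {T : Over (Spec (CommRingCat.of k))} (h : T ⟶ H) (u : T ⟶ U),
      lift h u ≫ m = (h ≫ iH) * (u ≫ iU) := fun h u => by
    simp only [m, MonObj.comp_mul, lift_fst_assoc, lift_snd_assoc]
  have hdec : ∀ {T : Over (Spec (CommRingCat.of k))} (g : T ⟶ G), ((g ≫ π) ≫ iH) * ((g ≫ ρ) ≫ iU) = g :=
    fun {T} g => by
    rw [← hm, show lift (g ≫ π) (g ≫ ρ) = g ≫ inv m by
      rw [← comp_lift, show lift π ρ = inv m from (by rw [← comp_lift, lift_fst_snd, Category.comp_id])],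
      Category.assoc, IsIso.inv_hom_id, Category.comp_id]
  have huniq : ∀ {T : Over (Spec (CommRingCat.of k))} (h : T ⟶ H) (u : T ⟶ U),
      ((h ≫ iH) * (u ≫ iU)) ≫ π = h ∧ ((h ≫ iH) * (u ≫ iU)) ≫ ρ = u := fun {T} h u => by
    constructor <;> rw [← hm] <;> simp [π, ρ]
  haveI : IsMonHom π := ExtGm.isMonHom_of_mul π fun Z a b => by
    obtain ⟨n, hn⟩ := hUn Z ((b ≫ π) ≫ iH)⁻¹ (a ≫ ρ)
    rw [inv_inv] at hn
    have e : a * b = (((a ≫ π) * (b ≫ π)) ≫ iH) * ((n * (b ≫ ρ)) ≫ iU) := by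
      rw [MonObj.mul_comp, MonObj.mul_comp, ← hn]
      conv_lhs => rw [← hdec a, ← hdec b]
      group
    rw [e, (huniq _ _).1]
  have h1 : iH ≫ π = 𝟙 H := by
    have := (huniq (𝟙 H) (1 : H ⟶ U)).1
    rwa [MonObj.one_comp, _root_.mul_one, Category.id_comp] at this
  have h2 : iU ≫ π = 1 := by
    have := (huniq (1 : U ⟶ H) (𝟙 U)).1
    rwa [MonObj.one_comp, _root_.one_mul, Category.id_comp] at this
  refine ⟨π, inferInstance, ρ, @hdec, h1, h2, @huniq, ?_⟩
  have hμ : ∀ {T : Over (Spec (CommRingCat.of k))} (g : T ⟶ G) (u : T ⟶ U),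
      lift g u ≫ (G ◁ iU) ≫ μ[G] = g * (u ≫ iU) := fun g u => by
    rw [← Category.assoc, lift_whiskerLeft, ← Hom.mul_def]
  have hw : fst G U ≫ π = ((G ◁ iU) ≫ μ[G]) ≫ π := by
    rw [show (G ◁ iU) ≫ μ[G] = lift (fst G U) (snd G U) ≫ (G ◁ iU) ≫ μ[G] by rw [lift_fst_snd, Category.id_comp], hμ,
      MonObj.mul_comp, Category.assoc, h2, MonObj.comp_one, _root_.mul_one]
  have key : ∀ {T : Over (Spec (CommRingCat.of k))} (g g' : T ⟶ G), g ≫ π = g' ≫ π →
      g * (((g⁻¹ * g') ≫ ρ) ≫ iU) = g' := fun g g' h => by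
    have e := hdec (g⁻¹ * g')
    rw [MonObj.mul_comp (g := π), GrpObj.inv_comp, h, inv_mul_cancel, MonObj.one_comp, _root_.one_mul] at e
    rw [e, mul_inv_cancel_left]
  refine IsPullback.of_isLimit' ⟨hw⟩ (PullbackCone.IsLimit.mk _ (fun s => lift s.fst ((s.fst⁻¹ * s.snd) ≫ ρ))
    (fun s => lift_fst _ _) (fun s => ?_) (fun s m' h₁ h₂ => ?_))
  · rw [hμ, key _ _ s.condition]
  · refine CartesianMonoidalCategory.hom_ext _ _ (by rw [lift_fst]; exact h₁) ?_
    rw [lift_snd]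
    have e : m' = lift (m' ≫ fst G U) (m' ≫ snd G U) := by rw [← comp_lift, lift_fst_snd, Category.comp_id]
    have h₂' : s.snd = s.fst * ((m' ≫ snd G U) ≫ iU) := by
      rw [← h₂]
      conv_lhs => rw [e, hμ]
      rw [h₁]
    rw [h₂', inv_mul_cancel_left]
    have := (huniq (1 : s.pt ⟶ H) (m' ≫ snd G U)).2
    rw [MonObj.one_comp, _root_.one_mul] at this
    exact this.symm

variable [Finite k] {kb : Type u} [Field kb] [Algebra k kb] [IsAlgClosure k kb]

/-- The Galois group agrees with powers of Frobenius on finite extensions. -/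
theorem exists_pow (π₀ : kb ≃ₐ[k] kb) (hπ : ∀ x : kb, π₀ x = x ^ Nat.card k) (L₁ : IntermediateField k kb)
    [FiniteDimensional k L₁] (σ : kb ≃ₐ[k] kb) : ∃ j : ℕ, (π₀ ^ j)⁻¹ * σ ∈ L₁.fixingSubgroup := by
  haveI : Algebra.IsAlgebraic k kb := IsAlgClosure.isAlgebraic
  haveI : Normal k kb := IsAlgClosure.normal k kb
  haveI : Fintype k := Fintype.ofFinite k
  let L := IntermediateField.normalClosure k L₁ kb
  haveI : FiniteDimensional k L := normalClosure.is_finiteDimensional k L₁ kb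
  haveI : Normal k L := normalClosure.normal k L₁ kb
  haveI : Finite L := Module.finite_of_finite k
  obtain ⟨⟨j, hjlt⟩, hj⟩ := (FiniteField.bijective_frobeniusAlgEquivOfAlgebraic_pow k L).2 (σ.restrictNormal L)
  have hπn : ∀ (j : ℕ) (x : kb), (π₀ ^ j) x = x ^ (Nat.card k ^ j) := by
    intro j
    induction j with
    | zero => intro x; simp
    | succ j ih => intro x; rw [pow_succ', AlgEquiv.mul_apply, ih, hπ, ← pow_mul, pow_succ]
  refine ⟨j, IntermediateField.fixingSubgroup_antitone (IntermediateField.le_normalClosure L₁) ?_⟩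
  rw [IntermediateField.mem_fixingSubgroup_iff]
  intro y hy
  have h1 : σ y = (π₀ ^ j) y := by
    have h2 := AlgEquiv.restrictNormal_commutes σ L ⟨y, hy⟩
    rw [← hj] at h2
    simp only [AlgEquiv.coe_pow, FiniteField.coe_frobeniusAlgEquivOfAlgebraic_iterate] at h2
    rw [hπn, Nat.card_eq_fintype_card]
    exact h2.symm
  rw [AlgEquiv.mul_apply, h1, ← AlgEquiv.mul_apply, inv_mul_cancel, AlgEquiv.one_apply]

variable (K : IntermediateField k kb) [FiniteDimensional k K] [Normal k K]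
variable {G H U X : Over (Spec (CommRingCat.of k))} [GrpObj G] [GrpObj H] [GrpObj U]

local notation "rs" => AlgEquiv.restrictNormalHom (F := k) (K₁ := kb) K

local notation "v" => IntermediateField.val K

/-- Every cocycle of a semidirect product is cohomologous to one with values in the complement. -/
theorem exists_reduce [IsAffineHom G.hom] [LocallyOfFiniteType G.hom] [Smooth U.hom] [IsAffineHom U.hom]
    [ConnectedSpace U.left] (iH : H ⟶ G) (iU : U ⟶ G) (π : G ⟶ H) [IsMonHom iH] [IsMonHom iU] [IsMonHom π]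
    (h1 : iH ≫ π = 𝟙 H) (h2 : iU ≫ π = 1) (hcart : IsPullback (fst G U) ((G ◁ iU) ≫ μ[G]) π π)
    (w : (K ≃ₐ[k] K) → SGA7.Pts K G) (hw : ∀ σ τ, w (σ * τ) = w σ * σ • w τ) :
    ∃ u : SGA7.Pts K U, ∀ σ, (u ≫ iU) * w σ * (σ • (u ≫ iU))⁻¹ = (w σ ≫ π) ≫ iH := by
  haveI : IsAlgClosed kb := IsAlgClosure.isAlgClosed k
  haveI : Algebra.IsAlgebraic k kb := IsAlgClosure.isAlgebraic
  haveI : Normal k kb := IsAlgClosure.normal k kb
  haveI : IsGalois k kb := ⟨⟩
  letI := Fintype.ofFinite k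
  let π₀ : kb ≃ₐ[k] kb := FiniteField.frobeniusAlgEquivOfAlgebraic k kb
  have hπ : ∀ x : kb, π₀ x = x ^ Nat.card k := fun x => by rw [Nat.card_eq_fintype_card]; rfl
  haveI : QuasiCompact U.hom := inferInstance
  obtain ⟨fr, hfr⟩ := LangGenLib.exists_isFrob k
  let W : (kb ≃ₐ[k] kb) → SGA7.Pts kb G := fun σ => StackCountLib.res v (w (rs σ))
  have hW : ∀ σ τ, W (σ * τ) = W σ * σ • W τ := fun σ τ => by
    show StackCountLib.res v (w (rs (σ * τ))) = _ * σ • StackCountLib.res v _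
    rw [StackCountLib.smul_res_val, map_mul, hw]
    exact MonObj.comp_mul _ _ _
  let Hh : (kb ≃ₐ[k] kb) → SGA7.Pts kb G := fun σ => (W σ ≫ π) ≫ iH
  have hH : ∀ σ τ, Hh (σ * τ) = Hh σ * σ • Hh τ := fun σ τ => by
    show (W (σ * τ) ≫ π) ≫ iH = _ * σ • ((W τ ≫ π) ≫ iH)
    rw [hW, MonObj.mul_comp, MonObj.mul_comp]
    simp only [GalTw.pts_smul_def, Category.assoc]
    rfl
  obtain ⟨a, ha, -⟩ := LangGenLib.exists_kernel_lift iU π hcart (Hh π₀ * (W π₀)⁻¹) (by
    rw [MonObj.mul_comp, GrpObj.inv_comp]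
    show ((W π₀ ≫ π) ≫ iH) ≫ π * _ = _
    rw [Category.assoc, h1, Category.comp_id, mul_inv_cancel])
  obtain ⟨x, hx⟩ := LangGenLib.exists_lang_conj kb hfr iU π h2 hcart (W π₀) a
  have e0 : (x ≫ iU) * W π₀ * (π₀ • (x ≫ iU))⁻¹ = Hh π₀ := by
    rw [GalTw.pts_smul_def, ← Category.assoc, ← GalTw.pts_smul_def, LangGenLib.IsFrob.smul_eq hfr hπ]
    rw [ha] at hx
    calc (x ≫ iU) * W π₀ * ((x ≫ fr U) ≫ iU)⁻¹
        = (x ≫ iU) * W π₀ * ((x ≫ fr U) ≫ iU)⁻¹ * (W π₀)⁻¹ * W π₀ := by group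
      _ = Hh π₀ := by rw [hx, inv_mul_cancel_right]
  have epow : ∀ j : ℕ, (x ≫ iU) * W (π₀ ^ j) * ((π₀ ^ j) • (x ≫ iU))⁻¹ = Hh (π₀ ^ j) := fun j => by
    induction j with
    | zero =>
      have hW1 : W 1 = 1 := by have := hW 1 1; rwa [_root_.one_mul, one_smul, left_eq_mul] at this
      rw [pow_zero, hW1, one_smul, _root_.mul_one, mul_inv_cancel]
      show _ = (W 1 ≫ π) ≫ iH
      rw [hW1, MonObj.one_comp, MonObj.one_comp]
    | succ j ih =>
      rw [pow_succ, hW, hH, ← ih, ← e0, smul_mul', smul_mul', smul_inv', ← mul_smul]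
      group
  obtain ⟨L₀, _, hL₀⟩ := LangGenLib.exists_field_fix U x
  have eall : ∀ σ, (x ≫ iU) * W σ * (σ • (x ≫ iU))⁻¹ = Hh σ := fun σ => by
    obtain ⟨j, hj⟩ := exists_pow π₀ hπ (K ⊔ L₀) σ
    have hK : rs ((π₀ ^ j)⁻¹ * σ) = 1 :=
      StackCountLib.rs_eq_one K (IntermediateField.fixingSubgroup_antitone le_sup_left hj)
    have hrs : rs σ = rs (π₀ ^ j) := by
      rw [map_mul, map_inv, inv_mul_eq_one] at hK
      exact hK.symm
    have hfix : ((π₀ ^ j)⁻¹ * σ) • x = x := hL₀ _ (IntermediateField.fixingSubgroup_antitone le_sup_right hj)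
    have hxs : σ • (x ≫ iU) = (π₀ ^ j) • (x ≫ iU) := by
      have : σ • x = (π₀ ^ j) • x := by
        conv_rhs => rw [← hfix]
        rw [← mul_smul, mul_inv_cancel_left]
      show SGA7.specAut σ ≫ x ≫ iU = SGA7.specAut (π₀ ^ j) ≫ x ≫ iU
      rw [← Category.assoc, ← Category.assoc]
      exact congrArg (· ≫ iU) this
    have hWs : W σ = W (π₀ ^ j) := by show StackCountLib.res v _ = StackCountLib.res v _; rw [hrs]
    rw [hxs, hWs, epow]
    show (W (π₀ ^ j) ≫ π) ≫ iH = (W σ ≫ π) ≫ iH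
    rw [hWs]
  have hinj : ∀ y y' : SGA7.Pts kb U, y ≫ iU = y' ≫ iU → y = y' := fun y y' h =>
    (LangGenLib.exists_kernel_lift iU π hcart (y ≫ iU) (by rw [Category.assoc, h2, MonObj.comp_one])).unique rfl h.symm
  obtain ⟨u, hu⟩ := StackCountLib.exists_res_val K (x := x) fun σ hσ => by
    have h := eall σ
    have h0 : W σ = 1 := by
      show StackCountLib.res v (w (rs σ)) = 1
      rw [StackCountLib.rs_eq_one K hσ]
      have := hw 1 1
      rw [_root_.one_mul, one_smul, left_eq_mul] at this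
      rw [this]
      exact MonObj.comp_one _
    simp only [Hh, h0, MonObj.one_comp, _root_.mul_one, mul_inv_eq_one] at h
    refine (hinj _ _ ?_).symm
    rw [h, GalTw.pts_smul_def, GalTw.pts_smul_def, Category.assoc]
  refine ⟨u, fun τ => ?_⟩
  obtain ⟨σ, rfl⟩ := StackCountLib.rs_surjective (kb := kb) K τ
  apply StackCountLib.res_injective v G
  have h := eall σ
  rw [← hu, ← StackCountLib.res_comp, StackCountLib.smul_res_val] at h
  show StackCountLib.resHom v G _ = _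
  rw [map_mul, map_mul, map_inv]
  refine h.trans ?_
  show (StackCountLib.res v (w (rs σ)) ≫ π) ≫ iH = StackCountLib.res v ((w (rs σ) ≫ π) ≫ iH)
  rw [StackCountLib.res_comp, StackCountLib.res_comp]

end UnipCountLib
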