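import Groth.Agent.StackCountLib.GalCount
import Groth.Agent.StackCountLib.BGFinite
import Groth.Agent.StackCountLib.EtaleTorsor
import Groth.Agent.QuotStLib.Coarse
import Groth.Agent.LangGenLib.Pts
import Groth.Prelude.Def_StkCnt
import Groth.Prelude.Def_AlgSt5

/-!
# The mass of the rational points of a quotient stack over a large finite extension
-/

set_option linter.all false
set_option backward.isDefEq.respectTransparency false
set_option backward.isDefEq.respectTransparency.types false
set_option autoImplicit false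
set_option maxHeartbeats 1000000

noncomputable section

universe u

open CategoryTheory AlgebraicGeometry MonObj
open AlgSp AlgSpLib AlgStLib
open CategoryTheory.Limits

namespace UnipCountLib

variable {k : Type u} [Field k] [Finite k] {kb : Type u} [Field kb] [Algebra k kb] [IsAlgClosure k kb]
variable {G X : Over (Spec (CommRingCat.of k))} [GrpObj G] [Smooth G.hom] [IsAffineHom G.hom]
  [LocallyOfFiniteType X.hom] [QuasiCompact X.hom] (aX : AlgGrp.Action G X)

theorem base_terminal : Nonempty (IsTerminal (SGA7.pt (K := k) k)) := by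
  have hone : (SGA7.pt (K := k) k).hom = 𝟙 _ := by
    show Spec.map (CommRingCat.ofHom (algebraMap k k)) = _
    rw [show CommRingCat.ofHom (algebraMap k k) = 𝟙 _ from rfl, Spec.map_id]; rfl
  exact ⟨Over.mkIdTerminal.ofIso (Over.isoMk (Iso.refl _) ((Category.id_comp _).trans hone))⟩

/-- The torsors of an essentially finite groupoid of rational points have points over a common finite field. -/
theorem exists_field (h : StkCnt.IsEssFinite (StkCnt.pts (AlgSt.QuotSt Scheme.etalePrecoverage G aX) k)) :
    ∃ L₀ : IntermediateField k kb, FiniteDimensional k L₀ ∧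
      ∀ ξ : StkCnt.pts (AlgSt.QuotSt Scheme.etalePrecoverage G aX) k,
        ∃ q : SGA7.Pts kb ξ.1.P, ∀ σ ∈ L₀.fixingSubgroup, σ • q = q := by
  classical
  haveI : IsAlgClosed kb := IsAlgClosure.isAlgClosed k
  haveI : Algebra.IsAlgebraic k kb := IsAlgClosure.isAlgebraic
  haveI : Normal k kb := IsAlgClosure.normal k kb
  haveI : IsGalois k kb := ⟨⟩
  haveI : IsAffine G.left := isAffine_of_isAffineHom G.hom
  have hone : (SGA7.pt (K := k) k).hom = 𝟙 _ := by
    show Spec.map (CommRingCat.ofHom (algebraMap k k)) = _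
    rw [show CommRingCat.ofHom (algebraMap k k) = 𝟙 _ from rfl, Spec.map_id]; rfl
  have key : ∀ ξ : StkCnt.pts (AlgSt.QuotSt Scheme.etalePrecoverage G aX) k,
      ∃ L : IntermediateField k kb, FiniteDimensional k L ∧
        ∃ q : SGA7.Pts kb ξ.1.P, ∀ σ ∈ L.fixingSubgroup, σ • q = q := by
    rintro ⟨A, hA⟩
    change A.base = _ at hA
    let A' : AlgSt.QuotObj Scheme.fppfPrecoverage G aX := StackCountLib.toFppf A
    haveI : LocallyOfFinitePresentation A.π.left :=
      (locP_yon_map_iff _).1 (QuotStLib.locP_torsor @LocallyOfFinitePresentation isLocalOnBase_fppf_lfp inferInstance A')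
    haveI : Surjective A.π.left := surjective_left_of_isSurjectiveMor (QuotStLib.isSurjectiveMor_torsor A')
    haveI : IsIso A.base.hom := by rw [hA, hone]; infer_instance
    haveI : LocallyOfFiniteType A.P.hom := by rw [← Over.w A.π]; infer_instance
    haveI : Nonempty ↥A.P.left := by
      obtain ⟨x, -⟩ := A.π.left.surjective ((inv A.base.hom) default)
      exact ⟨x⟩
    haveI : JacobsonSpace ↥A.P.left := LocallyOfFiniteType.jacobsonSpace A.P.hom
    obtain ⟨x, -, hx⟩ := nonempty_inter_closedPoints (Z := (Set.univ : Set A.P.left))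
      ⟨Classical.arbitrary _, trivial⟩ isOpen_univ.isLocallyClosed
    letI := (WeilLib.resMap A.P.hom x).hom.toAlgebra
    haveI := GeoPtLib.finite_residueField A.P.hom hx
    let a₀ : A.P.left.residueField x →ₐ[k] kb := IsAlgClosed.lift
    let q₀ : SGA7.Pts (A.P.left.residueField x) A.P :=
      Over.homMk (A.P.left.fromSpecResidueField x) (WeilLib.SpecMap_resMap A.P.hom x).symm
    haveI : FiniteDimensional k a₀.fieldRange :=
      Module.Finite.equiv (AlgEquiv.ofInjectiveField a₀).toLinearEquiv
    exact ⟨a₀.fieldRange, inferInstance, StackCountLib.res a₀ q₀, fun τ hτ =>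
      StackCountLib.smul_res_eq_self a₀ τ (fun l => (IntermediateField.mem_fixingSubgroup_iff _ _).1 hτ _ ⟨l, rfl⟩) q₀⟩
  haveI := h.finite_isoCl
  choose L hL q hq using key
  haveI := fun ξ => hL ξ
  let L₀ : IntermediateField k kb :=
    ⨆ c : StkCnt.IsoCl (StkCnt.pts (AlgSt.QuotSt Scheme.etalePrecoverage G aX) k), L c.out
  refine ⟨L₀, IntermediateField.finiteDimensional_iSup_of_finite, fun ξ => ?_⟩
  let c := StkCnt.IsoCl.mk ξ
  obtain ⟨e⟩ := Quotient.exact (Quotient.out_eq c)
  refine ⟨q c.out ≫ e.hom.1.top, fun σ hσ => ?_⟩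
  rw [GalTw.pts_smul_def, ← Category.assoc, ← GalTw.pts_smul_def, hq c.out σ
    (IntermediateField.fixingSubgroup_antitone (le_iSup (fun c : StkCnt.IsoCl _ => L c.out) c) hσ)]

/-- The mass formula over a finite field containing points of all torsors. -/
theorem mass (h : StkCnt.IsEssFinite (StkCnt.pts (AlgSt.QuotSt Scheme.etalePrecoverage G aX) k))
    (L₀ K : IntermediateField k kb) [FiniteDimensional k K] [Normal k K] (hle : L₀ ≤ K)
    (hL₀ : ∀ ξ : StkCnt.pts (AlgSt.QuotSt Scheme.etalePrecoverage G aX) k,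
      ∃ q : SGA7.Pts kb ξ.1.P, ∀ σ ∈ L₀.fixingSubgroup, σ • q = q) :
    StkCnt.ptCount (AlgSt.QuotSt Scheme.etalePrecoverage G aX) k h =
      (Nat.card (StackCountLib.compatSet K aX) : ℚ) / (Nat.card (SGA7.Pts K G) : ℚ) := by
  classical
  haveI : IsAlgClosed kb := IsAlgClosure.isAlgClosed k
  haveI : Algebra.IsAlgebraic k kb := IsAlgClosure.isAlgebraic
  haveI : Normal k kb := IsAlgClosure.normal k kb
  haveI : IsGalois k kb := ⟨⟩
  haveI : Finite K := Module.finite_of_finite k
  haveI : IsGalois k K := ⟨⟩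
  haveI := LangGenLib.finite_pts (k := k) K G
  haveI := LangGenLib.finite_pts (k := k) K X
  haveI : IsAffine G.left := isAffine_of_isAffineHom G.hom
  have hp := StackCountLib.galCover (k := k) (K := K)
  have hone : (SGA7.pt (K := k) k).hom = 𝟙 _ := by
    show Spec.map (CommRingCat.ofHom (algebraMap k k)) = _
    rw [show CommRingCat.ofHom (algebraMap k k) = 𝟙 _ from rfl, Spec.map_id]; rfl
  let hT : IsTerminal (SGA7.pt (K := k) k) := Over.mkIdTerminal.ofIso
    (Over.isoMk (Iso.refl _) ((Category.id_comp _).trans hone))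
  have hsec : ∀ ξ : StackCountLib.Fib aX Scheme.etalePrecoverage (SGA7.pt (K := k) k),
      Nonempty (SGA7.pt (K := k) K ⟶ ξ.1.P) := fun ξ => by
    obtain ⟨q, hq⟩ := hL₀ ξ
    obtain ⟨y, -⟩ := StackCountLib.exists_res_val K (x := q) fun σ hσ =>
      hq σ (IntermediateField.fixingSubgroup_antitone hle hσ)
    exact ⟨y⟩
  obtain ⟨_, _, hm⟩ := StackCountLib.mass_data (K := Scheme.etalePrecoverage) hp hT hsec
  have hV : StackCountLib.realised (s := fun σ => SGA7.specAut (K := k) σ) aX Scheme.etalePrecoverage hT =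
      StackCountLib.compatSet K aX := by
    ext ⟨w, x⟩
    constructor
    · rintro ⟨ξ, q, e⟩
      refine ⟨fun σ τ => ?_, fun σ => ?_⟩
      · have := StackCountLib.dataOf_cocycle (s := fun σ => SGA7.specAut (K := k) σ) hT ξ q (σ := σ) (τ := τ)
          (ρ := σ * τ) (GalTw.specAut_mul K σ τ)
        rw [e] at this
        exact this
      · have := StackCountLib.dataOf_compat (s := fun σ => SGA7.specAut (K := k) σ) hT ξ q σ
        rw [e] at this
        exact this
    · rintro ⟨hw, hx⟩
      obtain ⟨Yt, a, _, ha, q, hq⟩ := StackCountLib.exists_torsor w hw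
      refine StackCountLib.exists_obj hp hT a q w hq x hx
        ⟨_, StackCountLib.singleton_mem_etale K, ?_⟩
      rintro _ _ ⟨⟩
      refine ⟨q.left, ?_⟩
      have h₁ : q.left ≫ Yt.hom = GalTwLib.ptK k K := Over.w q
      have h₂ : (hT.from Yt).left ≫ (SGA7.pt (K := k) k).hom = Yt.hom := Over.w (hT.from Yt)
      rw [hone, Category.comp_id] at h₂
      exact (congrArg (q.left ≫ ·) h₂).trans h₁
  rw [hV] at hm
  haveI := h.finite_isoCl
  letI : Fintype (StkCnt.IsoCl (StkCnt.pts (AlgSt.QuotSt Scheme.etalePrecoverage G aX) k)) := Fintype.ofFinite _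
  rw [← hm, StkCnt.ptCount, StkCnt.count_eq_sum h, finsum_eq_sum_of_fintype]
  refine Finset.sum_congr rfl fun c _ => ?_
  conv_lhs => rw [← Quotient.out_eq c]
  rfl

end UnipCountLib
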