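import Groth.Agent.UnipCountLib.Lang
import Groth.Agent.StackCountLib.Descent
import Groth.Agent.GmBidualLib.Line
import Groth.Agent.GaGmKerLib.GaPts
import Mathlib.RingTheory.KrullDimension.Polynomial

/-!
# Frobenius fixed points and the additive group
-/

set_option autoImplicit false
set_option linter.all false
set_option backward.isDefEq.respectTransparency false
set_option backward.isDefEq.respectTransparency.types false

noncomputable section

universe u

open CategoryTheory CategoryTheory.Limits MonoidalCategory CartesianMonoidalCategory MonObj AlgebraicGeometry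
open scoped TensorProduct
open CoactBr (sp pt)

attribute [-instance] CategoryTheory.Hom.commGroup

namespace UnipCountLib

variable {k : Type u} [Field k] [Finite k] {kb : Type u} [Field kb] [Algebra k kb] [IsAlgClosure k kb]
variable (π₀ : kb ≃ₐ[k] kb) (hπ : ∀ x : kb, π₀ x = x ^ Nat.card k)

include hπ in
/-- Being fixed by Frobenius is being fixed by the Galois group. -/
theorem frob_fix (Y : Over (Spec (CommRingCat.of k))) [LocallyOfFiniteType Y.hom] (x : SGA7.Pts kb Y)
    (h : π₀ • x = x) (σ : kb ≃ₐ[k] kb) : σ • x = x := by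
  haveI : Algebra.IsAlgebraic k kb := IsAlgClosure.isAlgebraic
  haveI : Normal k kb := IsAlgClosure.normal k kb
  haveI : IsGalois k kb := ⟨⟩
  haveI : Fintype k := Fintype.ofFinite k
  obtain ⟨L₀, _, hL₀⟩ := LangGenLib.exists_field_fix Y x
  let L := IntermediateField.normalClosure k L₀ kb
  haveI : FiniteDimensional k L := normalClosure.is_finiteDimensional k L₀ kb
  haveI : Normal k L := normalClosure.normal k L₀ kb
  haveI : Finite L := Module.finite_of_finite k
  obtain ⟨⟨j, hjlt⟩, hj⟩ := (FiniteField.bijective_frobeniusAlgEquivOfAlgebraic_pow k L).2 (σ.restrictNormal L)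
  have hπn : ∀ (j : ℕ) (x : kb), (π₀ ^ j) x = x ^ (Nat.card k ^ j) := by
    intro j
    induction j with
    | zero => intro x; simp
    | succ j ih => intro x; rw [pow_succ', AlgEquiv.mul_apply, ih, hπ, ← pow_mul, pow_succ]
  have hmem : (π₀ ^ j)⁻¹ * σ ∈ L₀.fixingSubgroup := by
    refine IntermediateField.fixingSubgroup_antitone (IntermediateField.le_normalClosure L₀) ?_
    rw [IntermediateField.mem_fixingSubgroup_iff]
    intro y hy
    have h1 : σ y = (π₀ ^ j) y := by
      have h2 := AlgEquiv.restrictNormal_commutes σ L ⟨y, hy⟩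
      rw [← hj] at h2
      simp only [AlgEquiv.coe_pow, FiniteField.coe_frobeniusAlgEquivOfAlgebraic_iterate] at h2
      rw [hπn, Nat.card_eq_fintype_card]
      exact h2.symm
    rw [AlgEquiv.mul_apply, h1, ← AlgEquiv.mul_apply, inv_mul_cancel, AlgEquiv.one_apply]
  have hpow : ∀ j : ℕ, (π₀ ^ j) • x = x := fun j => by
    induction j with
    | zero => rw [pow_zero, one_smul]
    | succ j ih => rw [pow_succ', mul_smul, ih, h]
  calc σ • x = (π₀ ^ j) • ((π₀ ^ j)⁻¹ * σ) • x := by rw [← mul_smul, mul_inv_cancel_left]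
    _ = x := by rw [hL₀ _ hmem, hpow]

include hπ in
/-- The rational points are the points fixed by Frobenius. -/
theorem card_fixed (Y : Over (Spec (CommRingCat.of k))) [LocallyOfFiniteType Y.hom] :
    Nat.card {x : SGA7.Pts kb Y // π₀ • x = x} = Nat.card (SGA7.Pts k Y) := by
  haveI : Algebra.IsAlgebraic k kb := IsAlgClosure.isAlgebraic
  haveI : Normal k kb := IsAlgClosure.normal k kb
  haveI : IsGalois k kb := ⟨⟩
  exact Nat.card_congr (((Equiv.ofBijective _ (StackCountLib.fixed_bijective (L' := kb) Y)).trans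
    (Equiv.subtypeEquivRight fun x => ⟨fun h => h π₀, fun h σ => frob_fix π₀ hπ Y x h σ⟩)).symm)

omit [Finite k] in
/-- The points of the additive group. -/
theorem ga_pts_bijective (L : Type u) [Field L] [Algebra k L] :
    Function.Bijective (fun x : SGA7.Pts L (Red.Ga (Spec (CommRingCat.of k))) =>
      (Scheme.ΓSpecIso (CommRingCat.of L)).hom (Red.gaFn x)) := by
  let R := (Scheme.ΓSpecIso (CommRingCat.of L)).commRingCatIsoToRingEquiv
  have hf : Function.Bijective (fun x : SGA7.pt (K := k) L ⟶ Red.Ga (Spec (CommRingCat.of k)) => Red.gaFn x) :=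
    ⟨Groth.Agent.GaPts.gaFn_injective, fun a => ⟨Groth.Agent.GaPts.ptOf a, Groth.Agent.GaPts.gaFn_ptOf a⟩⟩
  exact R.bijective.comp hf

omit [Finite k] in
/-- The additive group has dimension one. -/
theorem dim_ga : topologicalKrullDim ↥(Red.Ga (Spec (CommRingCat.of k))).left = 1 := by
  obtain ⟨e, -⟩ := GmExtLib.exists_lineIso (CommRingCat.of k)
  refine (IsHomeomorph.topologicalKrullDim_eq _ (Scheme.homeoOfIso ((Over.forget _).mapIso e)).isHomeomorph).symm.trans ?_
  show topologicalKrullDim (PrimeSpectrum (Polynomial k)) = 1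
  rw [PrimeSpectrum.topologicalKrullDim_eq_ringKrullDim, Polynomial.ringKrullDim_of_isNoetherianRing,
    ringKrullDim_eq_zero_of_field, zero_add]

omit [Finite k] in
/-- The additive group is affine and of finite type. -/
theorem ga_facts : IsAffine (Red.Ga (Spec (CommRingCat.of k))).left ∧
    LocallyOfFiniteType (Red.Ga (Spec (CommRingCat.of k))).hom ∧ QuasiCompact (Red.Ga (Spec (CommRingCat.of k))).hom := by
  obtain ⟨e, -⟩ := GmExtLib.exists_lineIso (CommRingCat.of k)
  haveI : IsIso e.inv.left := ((Over.forget _).mapIso e.symm).isIso_hom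
  haveI : IsAffine (GmExtLib.ao (𝟙 (Spec (CommRingCat.of k))) (Polynomial k)).left :=
    inferInstanceAs (IsAffine (Spec (CommRingCat.of (Polynomial k))))
  haveI : IsAffine (Red.Ga (Spec (CommRingCat.of k))).left := .of_isIso e.inv.left
  refine ⟨inferInstance, ?_, inferInstance⟩
  haveI : LocallyOfFiniteType Red.GaZ.{u}.hom := by
    haveI : Algebra.FiniteType (ULift.{u} ℤ) (SymmetricAlgebra (ULift.{u} ℤ) (ULift.{u} ℤ)) :=
      Algebra.FiniteType.equiv inferInstance
        (SymmetricAlgebra.equivMvPolynomial (Module.Basis.singleton Unit (ULift.{u} ℤ))).symm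
    exact (HasRingHomProperty.Spec_iff (P := @LocallyOfFiniteType)).2 (RingHom.finiteType_algebraMap.2 this)
  exact MorphismProperty.pullback_snd (P := @LocallyOfFiniteType) _ _ inferInstance

end UnipCountLib
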