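import Groth.Agent.UnipCountLib.Basic
import Groth.Agent.SubSpecLib.RedSub
import Groth.Agent.OrbitLib.DimAdd
import Groth.Agent.SepRadLib.Generated

/-!
# The reduced identity component of the kernel of a surjection to the additive group
-/

set_option autoImplicit false
set_option linter.all false
set_option backward.isDefEq.respectTransparency false
set_option backward.isDefEq.respectTransparency.types false
set_option maxHeartbeats 1000000

noncomputable section

universe u

open CategoryTheory CategoryTheory.Limits MonoidalCategory CartesianMonoidalCategory MonObj AlgebraicGeometry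
open scoped TensorProduct

attribute [-instance] CategoryTheory.Hom.commGroup

namespace UnipCountLib

variable {k : Type u} [Field k]

open Groth.Agent.GrpField in
theorem exists_kernel_component [PerfectField k] (kb : Type u) [Field kb] [Algebra k kb] [IsAlgClosed kb]
    {U Q : Over (Spec (CommRingCat.of k))} [GrpObj U] [GrpObj Q] [IsAffine U.left] [Smooth U.hom]
    [ConnectedSpace U.left] [LocallyOfFiniteType Q.hom] [QuasiCompact Q.hom]
    (f : U ⟶ Q) [IsMonHom f] [Surjective f.left] :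
    ∃ (B : Over (Spec (CommRingCat.of k))) (_ : GrpObj B) (b : B ⟶ U) (_ : IsMonHom b),
      IsClosedImmersion b.left ∧ Smooth B.hom ∧ IsAffine B.left ∧ ConnectedSpace B.left ∧ b ≫ f = 1 ∧
      topologicalKrullDim ↥U.left = topologicalKrullDim ↥Q.left + topologicalKrullDim ↥B.left ∧
      (∀ (u : SGA7.Pts kb U) (z : SGA7.Pts kb B), ∃ z' : SGA7.Pts kb B, z' ≫ b = u * (z ≫ b) * u⁻¹) ∧
      (∃ F : Set (SGA7.Pts kb U), F.Finite ∧ ∀ x : SGA7.Pts kb U, x ≫ f = 1 →
        ∃ y ∈ F, ∃ z : SGA7.Pts kb B, z ≫ b = y⁻¹ * x) := by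
  classical
  haveI : QuasiCompact U.hom := inferInstance
  haveI : LocallyOfFiniteType U.hom := inferInstance
  haveI : IsSeparated Q.hom := isSeparated_grp (G := Q)
  let N : Over (Spec (CommRingCat.of k)) := Limits.pullback f η[Q]
  let i : N ⟶ U := pullback.fst f η[Q]
  haveI hη : IsClosedImmersion (η[Q] : 𝟙_ _ ⟶ Q).left := by
    haveI : IsClosedImmersion ((η[Q] : 𝟙_ _ ⟶ Q).left ≫ Q.hom) := by
      rw [Over.w η[Q]]
      exact inferInstanceAs (IsClosedImmersion (𝟙 (Spec (CommRingCat.of k))))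
    exact IsClosedImmersion.of_comp _ Q.hom
  have hN : IsPullback i (toUnit N) f η[Q] := by
    have h := IsPullback.of_hasPullback f η[Q]
    rwa [toUnit_unique (pullback.snd f η[Q]) (toUnit N)] at h
  haveI : IsClosedImmersion i.left :=
    MorphismProperty.of_isPullback (P := @IsClosedImmersion) (hN.map (Over.forget _)).flip hη
  haveI : Mono i := Over.mono_of_mono_left i
  have hif : i ≫ f = 1 := by rw [hN.w, Hom.one_def]
  have hfac : ∀ {T : Over (Spec (CommRingCat.of k))} (x : T ⟶ U), x ≫ f = 1 → ∃ y : T ⟶ N, y ≫ i = x :=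
    fun {T} x hx => ⟨hN.lift x (toUnit T) (by rw [hx, Hom.one_def]), hN.lift_fst _ _ _⟩
  obtain ⟨hNg, hi⟩ := Groth.Agent.SubDesc.exists_grpObj_of_mono i
    (hfac _ (by rw [MonObj.mul_comp, Category.assoc, Category.assoc, hif, MonObj.comp_one, MonObj.comp_one,
      _root_.one_mul]))
    (hfac _ (by rw [MonObj.one_comp]))
    (hfac _ (by rw [GrpObj.inv_comp, hif, inv_one]))
  haveI := hi
  haveI : LocallyOfFiniteType N.hom := by rw [← Over.w i]; infer_instance
  haveI : QuasiCompact N.hom := by rw [← Over.w i]; infer_instance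
  -- the dimension of the kernel
  let a : AlgGrp.Action U Q :=
    { act := (fst U Q ≫ f) * snd U Q
      one_act := by
        rw [MonObj.comp_mul, whiskerRight_fst_assoc, whiskerRight_snd, IsMonHom.one_hom,
          toUnit_unique (fst (𝟙_ _) Q) (toUnit _), ← Hom.one_def, _root_.one_mul]
        exact (leftUnitor_hom Q).symm
      mul_act := by
        have hμ : μ[U] = fst U U * snd U U := by rw [Hom.mul_def, lift_fst_snd, Category.id_comp]
        rw [MonObj.comp_mul, MonObj.comp_mul, MonObj.comp_mul]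
        simp only [whiskerRight_fst_assoc, whiskerRight_snd, whiskerLeft_fst_assoc, whiskerLeft_snd,
          associator_hom_fst_assoc, MonObj.comp_mul, associator_hom_snd_fst_assoc, associator_hom_snd_snd]
        rw [hμ, MonObj.mul_comp, MonObj.comp_mul, _root_.mul_assoc] }
  have horb : a.orbitMap η[Q] = f := by
    show lift (𝟙 U) (toUnit U ≫ η[Q]) ≫ ((fst U Q ≫ f) * snd U Q) = f
    rw [MonObj.comp_mul, lift_fst_assoc, Category.id_comp, lift_snd, ← Hom.one_def, _root_.mul_one]
  have hdim := OrbitLib.dim_eq_add a η[Q]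
  have horb' : OrbitLib.orbit a η[Q] = Set.univ := by
    show Set.range (a.orbitMap η[Q]).left = Set.univ
    rw [horb]
    exact Set.range_eq_univ.2 f.left.surjective
  rw [horb', (Homeomorph.Set.univ _).isHomeomorph.topologicalKrullDim_eq, horb] at hdim
  have hdimN : topologicalKrullDim ↥N.left =
      topologicalKrullDim ↥(Limits.pullback f.left (η[Q] : 𝟙_ _ ⟶ Q).left) :=
    IsHomeomorph.topologicalKrullDim_eq _ (Scheme.homeoOfIso (hN.map (Over.forget _)).isoPullback).isHomeomorph
  rw [← hdimN] at hdim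
  -- the component
  obtain ⟨G₀, hG₀, i₀, hi₀, hic, -, hrange, hgi, -⟩ := exists_identity_component (G := N)
  haveI := hi₀; haveI := hic; haveI := hgi
  haveI : LocallyOfFiniteType G₀.hom := by rw [← Over.w i₀]; infer_instance
  obtain ⟨B, hB, j, hj, hjc, hBs, hsurj⟩ := SubSpecLib.RedSub.exists_smooth_reduction G₀
  haveI := hj; haveI := hjc
  haveI : Subsingleton ↥(Spec (CommRingCat.of k)) := inferInstanceAs (Subsingleton (PrimeSpectrum k))
  haveI : IrreducibleSpace ↥G₀.left := GeometricallyIrreducible.irreducibleSpace_of_subsingleton G₀.hom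
  let e : ↥B.left ≃ₜ ↥G₀.left :=
    (isHomeomorph_iff_isEmbedding_surjective.2 ⟨j.left.isClosedEmbedding.isEmbedding, hsurj⟩).homeomorph
  haveI : IrreducibleSpace ↥B.left := e.irreducibleSpace_iff.2 inferInstance
  haveI : IsClosedImmersion (j ≫ i₀ ≫ i).left := by simp only [Over.comp_left]; infer_instance
  haveI := hBs
  have hdimB : topologicalKrullDim ↥B.left = topologicalKrullDim ↥N.left := by
    rw [e.isHomeomorph.topologicalKrullDim_eq,
      i₀.left.isClosedEmbedding.isEmbedding.toHomeomorph.isHomeomorph.topologicalKrullDim_eq, hrange]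
    exact (Groth.Agent.S5341.result k N).1 _ (Z0_mem_components N)
  -- points of the component
  have hZ : ∀ {S : Set N.left}, _root_.IsPreconnected S → unitPt N ∈ S → S ⊆ Z0 N := fun {S} hS h => by
    rw [← connectedComponent_unit]
    exact hS.subset_connectedComponent h
  have hlift : ∀ y : SGA7.Pts kb N, y.left (IsLocalRing.closedPoint kb) ∈ Z0 N →
      ∃ z : SGA7.Pts kb B, z ≫ j ≫ i₀ = y := fun y hy => by
    haveI : IsClosedImmersion (j ≫ i₀).left := by rw [Over.comp_left]; infer_instance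
    obtain ⟨l, hl⟩ := AVAmpleLib.exists_lift_of_reduced (Z := Spec (CommRingCat.of kb)) (j ≫ i₀).left y.left (by
      rintro _ ⟨p, rfl⟩
      rw [Subsingleton.elim (α := ↥(Spec (CommRingCat.of kb))) p (IsLocalRing.closedPoint kb)]
      rw [← hrange] at hy
      obtain ⟨g, hg⟩ := hy
      obtain ⟨q, rfl⟩ := hsurj g
      exact ⟨q, hg⟩)
    refine ⟨Over.homMk l ?_, Over.OverMorphism.ext hl⟩
    rw [← Over.w (j ≫ i₀), ← Category.assoc, hl]
    exact Over.w y
  have hunit : (1 : SGA7.Pts kb N).left (IsLocalRing.closedPoint kb) = unitPt N := by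
    rw [Hom.one_def, Over.comp_left, Scheme.Hom.comp_apply]
    exact congrArg _ (Subsingleton.elim (α := PrimeSpectrum k) _ _)
  have key : ∀ {X : Over (Spec (CommRingCat.of k))} (c : X ⊗ (SGA7.pt (K := k) kb) ⟶ N) (S : Set ↥(X ⊗ (SGA7.pt (K := k) kb)).left),
      _root_.IsPreconnected S → ∀ p q : SGA7.Pts kb X,
      (lift p (𝟙 (SGA7.pt (K := k) kb))).left (IsLocalRing.closedPoint kb) ∈ S → (lift q (𝟙 (SGA7.pt (K := k) kb))).left (IsLocalRing.closedPoint kb) ∈ S →
      lift p (𝟙 (SGA7.pt (K := k) kb)) ≫ c = 1 → ∃ z : SGA7.Pts kb B, z ≫ j ≫ i₀ = lift q (𝟙 (SGA7.pt (K := k) kb)) ≫ c :=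
    fun {X} c S hS p q hp hq h => by
    refine hlift _ (hZ (hS.image _ c.left.continuous.continuousOn)
      ⟨_, hp, ?_⟩ ⟨_, hq, rfl⟩)
    have := congrArg (fun m : SGA7.Pts kb N => m.left (IsLocalRing.closedPoint kb)) h
    exact this.trans hunit
  refine ⟨B, hB, j ≫ i₀ ≫ i, inferInstance, inferInstance, hBs, isAffine_of_isAffineHom (j ≫ i₀ ≫ i).left,
    inferInstance, by rw [Category.assoc, Category.assoc, hif, MonObj.comp_one, MonObj.comp_one], ?_,
    fun u z => ?_, ?_⟩
  · rw [hdimB]; exact hdim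
  · let c₀ : B ⊗ (SGA7.pt (K := k) kb) ⟶ U := (snd B (SGA7.pt (K := k) kb) ≫ u) * (fst B (SGA7.pt (K := k) kb) ≫ j ≫ i₀ ≫ i) * (snd B (SGA7.pt (K := k) kb) ≫ u)⁻¹
    obtain ⟨c, hc⟩ := hfac c₀ (by
      show ((snd B (SGA7.pt (K := k) kb) ≫ u) * (fst B (SGA7.pt (K := k) kb) ≫ j ≫ i₀ ≫ i) * (snd B (SGA7.pt (K := k) kb) ≫ u)⁻¹) ≫ f = 1
      rw [MonObj.mul_comp, MonObj.mul_comp, GrpObj.inv_comp, Category.assoc, Category.assoc, Category.assoc,
        Category.assoc, hif, MonObj.comp_one, MonObj.comp_one, MonObj.comp_one, _root_.mul_one, mul_inv_cancel])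
    have hev : ∀ q : SGA7.Pts kb B, (lift q (𝟙 (SGA7.pt (K := k) kb)) ≫ c) ≫ i = u * (q ≫ j ≫ i₀ ≫ i) * u⁻¹ := fun q => by
      rw [Category.assoc, hc]
      simp only [c₀, MonObj.comp_mul, GrpObj.comp_inv, lift_snd_assoc, lift_fst_assoc, Category.id_comp]
    haveI : ConnectedSpace ↥(B ⊗ (SGA7.pt (K := k) kb)).left :=
      Groth.Agent.SepRad.connectedSpace_bc B (Spec.map (CommRingCat.ofHom (algebraMap k kb)))
    obtain ⟨z', hz'⟩ := key c Set.univ isPreconnected_univ 1 z trivial trivial
      ((cancel_mono i).1 (by rw [hev, MonObj.one_comp, MonObj.one_comp, _root_.mul_one, mul_inv_cancel]))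
    exact ⟨z', by rw [← hev, ← hz']; simp only [Category.assoc]⟩
  · let P := N ⊗ (SGA7.pt (K := k) kb)
    haveI : LocallyOfFiniteType (pullback.snd N.hom (SGA7.pt (K := k) kb).hom) := inferInstance
    haveI : CompactSpace ↥P.left :=
      QuasiCompact.compactSpace_of_compactSpace (pullback.snd N.hom (SGA7.pt (K := k) kb).hom)
    haveI : IsLocallyNoetherian (SGA7.pt (K := k) kb).left :=
      inferInstanceAs (IsLocallyNoetherian (Spec (CommRingCat.of kb)))
    haveI : CompactSpace ↥(SGA7.pt (K := k) kb).left := inferInstanceAs (CompactSpace ↥(Spec (CommRingCat.of kb)))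
    haveI : IsLocallyNoetherian P.left :=
      LocallyOfFiniteType.isLocallyNoetherian (pullback.snd N.hom (SGA7.pt (K := k) kb).hom)
    haveI : IsNoetherian P.left := {}
    haveI := (TopologicalSpace.NoetherianSpace.finite_irreducibleComponents (α := ↥P.left)).to_subtype
    let pr : SGA7.Pts kb N → ↥P.left := fun y => (lift y (𝟙 (SGA7.pt (K := k) kb))).left (IsLocalRing.closedPoint kb)
    let rep : irreducibleComponents ↥P.left → SGA7.Pts kb N := fun C =>
      if h : ∃ y, pr y ∈ C.1 then h.choose else 1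
    refine ⟨Set.range (fun C => rep C ≫ i), Set.finite_range _, fun x hx => ?_⟩
    obtain ⟨y, rfl⟩ := hfac x hx
    obtain ⟨C, hC, hsub⟩ := exists_mem_irreducibleComponents_subset_of_isIrreducible ({pr y} : Set ↥P.left)
      isIrreducible_singleton
    have hyC : pr y ∈ C := hsub rfl
    have hex : ∃ y, pr y ∈ (⟨C, hC⟩ : irreducibleComponents ↥P.left).1 := ⟨y, hyC⟩
    let r := rep ⟨C, hC⟩
    have hr : pr r ∈ C := by
      show pr (rep ⟨C, hC⟩) ∈ C
      simp only [rep, dif_pos hex]
      exact hex.choose_spec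
    let c : N ⊗ (SGA7.pt (K := k) kb) ⟶ N := (snd N (SGA7.pt (K := k) kb) ≫ r)⁻¹ * fst N (SGA7.pt (K := k) kb)
    have hev : ∀ q : SGA7.Pts kb N, lift q (𝟙 (SGA7.pt (K := k) kb)) ≫ c = r⁻¹ * q := fun q => by
      simp only [c, MonObj.comp_mul, GrpObj.comp_inv, lift_snd_assoc, lift_fst, Category.id_comp]
    obtain ⟨z, hz⟩ := key c C hC.1.2.isPreconnected r y hr hyC (by rw [hev, inv_mul_cancel])
    refine ⟨_, ⟨⟨C, hC⟩, rfl⟩, z, ?_⟩
    rw [← Category.assoc j, ← Category.assoc z, hz, hev, MonObj.mul_comp, GrpObj.inv_comp]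

end UnipCountLib
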