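import Groth.Agent.UnipCountLib.Group
import Groth.Agent.UnipCountLib.Kernel
import Groth.Agent.GmVanishLib.GaPrim
import Groth.Agent.HopfFFLib.Consequences
import Groth.Agent.VecGrpLib.WLUnipBridge
import Groth.Agent.PurInsLib.QuotUnip

/-!
# Points of smooth connected unipotent groups over a finite field
-/

set_option autoImplicit false
set_option linter.all false
set_option backward.isDefEq.respectTransparency false
set_option backward.isDefEq.respectTransparency.types false
set_option maxHeartbeats 2000000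
set_option synthInstance.maxHeartbeats 400000

noncomputable section

universe u

open CategoryTheory CategoryTheory.Limits MonoidalCategory CartesianMonoidalCategory MonObj AlgebraicGeometry
open scoped TensorProduct
open CoactBr (sp pt)
open Groth.Agent

attribute [-instance] CategoryTheory.Hom.commGroup

namespace UnipCountLib

variable {k : Type u} [Field k]

/-- A nontrivial unipotent group maps onto the additive group. -/
theorem exists_hom_ga (kb : Type u) [Field kb] [Algebra k kb] [IsAlgClosed kb] [Algebra.IsAlgebraic k kb]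
    (U : Over (Spec (CommRingCat.of k))) [GrpObj U] [IsAffine U.left] [Smooth U.hom] [ConnectedSpace U.left]
    (hno : Red.HasNoSubtorus kb (GalTw.bcK kb U)) :
    IsIso U.hom ∨ ∃ (f : U ⟶ Red.Ga (Spec (CommRingCat.of k))) (_ : IsMonHom f), Surjective f.left ∧
      ∀ y : SGA7.Pts kb (Red.Ga (Spec (CommRingCat.of k))), ∃ x : SGA7.Pts kb U, x ≫ f = y := by
  classical
  obtain ⟨A, _, _, v, hv, hA, hgr, hK⟩ := Groth.Agent.VecGrp.exists_unip U
    (Groth.Agent.SepRad.hasNoSubtorus_geomFibre U hno)
  haveI := hv; haveI := hA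
  haveI : IsMonHom v.inv := inferInstance
  haveI : IsIso v.hom.left := ((Over.forget _).mapIso v).isIso_hom
  haveI : IsIso v.inv.left := ((Over.forget _).mapIso v).isIso_inv
  obtain ⟨hGa, -, -⟩ := ga_facts (k := k)
  haveI := hGa
  haveI : Nontrivial A := (Bialgebra.counitAlgHom k A).toRingHom.domain_nontrivial
  by_cases hscal : ∀ a : A, a = CoalgebraStruct.counit (R := k) a • (1 : A)
  · left
    have hbij : Function.Bijective (algebraMap k A) := ⟨(algebraMap k A).injective, fun a =>
      ⟨CoalgebraStruct.counit (R := k) a, (Algebra.algebraMap_eq_smul_one _).trans (hscal a).symm⟩⟩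
    haveI : IsIso (CommRingCat.ofHom (algebraMap k A)) :=
      (RingEquiv.ofBijective (algebraMap k A) hbij).toCommRingCatIso.isIso_hom
    haveI : IsIso (sp k A).hom := inferInstanceAs (IsIso (Spec.map (CommRingCat.ofHom (algebraMap k A))))
    rw [← Over.w v.inv]
    infer_instance
  right
  push Not at hscal
  obtain ⟨a, ha⟩ := hscal
  obtain ⟨x, hx0, hx⟩ := UnipHopf.exists_primitive_of_exhaustive hK ha
  obtain ⟨H, _, _, w, hw, hw'⟩ := DeligneKillLib.exists_sp (Red.Ga (Spec (CommRingCat.of k)))
  obtain ⟨φ, b, hb, hφb⟩ := GmVanishLib.exists_bialgHom_of_primitive x hx0 hx w hw hw'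
  haveI := AlbLib.geometricallyIntegral_grp U
  haveI : IsIntegral U.left := GeometricallyIntegral.isIntegral_of_subsingleton U.hom
  haveI : IsIntegral (Spec (CommRingCat.of A)) :=
    haveI : Nonempty (sp k A).left := Nonempty.map (v.inv.left ·) inferInstance
    (isIntegral_of_isOpenImmersion v.hom.left : IsIntegral (sp k A).left)
  haveI : IsDomain A := (affine_isIntegral_iff (CommRingCat.of A)).mp ‹_›
  have hinj : Function.Injective φ := by
    rw [injective_iff_map_eq_zero]
    intro c hc
    by_contra hne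
    let K : Ideal H := RingHom.ker (φ : H →ₐ[k] A)
    have hK' : K ≠ ⊥ := fun h => hne ((Submodule.mem_bot H).1 (h ▸ (hc : c ∈ K)))
    haveI := GmVanishLib.finite_quotient_of_ne_bot w K hK'
    let q : (H ⧸ K) →ₐ[k] A := Ideal.kerLiftAlg (φ : H →ₐ[k] A)
    have hqi : Function.Injective q := Ideal.kerLiftAlg_injective _
    haveI : IsDomain (H ⧸ K) := hqi.isDomain q
    haveI : IsArtinianRing (H ⧸ K) := IsArtinianRing.of_finite k _
    letI := IsArtinianRing.isField_of_isDomain (H ⧸ K) |>.toField
    let ε : (H ⧸ K) →+* k := ((Bialgebra.counitAlgHom k A).comp q).toRingHom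
    refine hφb ?_
    have h0 : ε (Ideal.Quotient.mk K b) = 0 := by
      show Coalgebra.counit (R := k) (φ b) = 0
      rw [CoalgHomClass.counit_comp_apply]
      exact hb
    have h1 : Ideal.Quotient.mk K b = 0 := ε.injective (h0.trans (map_zero ε).symm)
    exact (Ideal.Quotient.eq_zero_iff_mem.1 h1 : b ∈ K)
  let p : sp k A ⟶ sp k H := pt (φ : H →ₐ[k] A)
  haveI : IsMonHom p := SekSuwa.isMonHom_specHom φ
  haveI := hw
  haveI : Surjective p.left := by
    refine ⟨?_⟩
    algebraize [(φ : H →+* A)]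
    haveI : Module.FaithfullyFlat H A :=
      RingHom.faithfullyFlat_algebraMap_iff.1 (HopfFF.faithfullyFlat_of_injective φ hinj)
    exact PrimeSpectrum.comap_surjective_of_faithfullyFlat
  haveI : IsIso w.hom.left := ((Over.forget _).mapIso w).isIso_hom
  refine ⟨v.inv ≫ p ≫ w.hom, inferInstance, by simp only [Over.comp_left]; infer_instance, fun y => ?_⟩
  obtain ⟨q, hq⟩ := Groth.Agent.DiagRep.exists_pt (C := kb) (y ≫ w.inv)
  obtain ⟨g, hg⟩ := HopfFF.exists_lift_point φ hinj kb q
  refine ⟨pt g ≫ v.hom, ?_⟩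
  rw [Category.assoc, Iso.hom_inv_id_assoc, ← Category.assoc, ← CoactBr.pt_comp, hg, ← hq, Category.assoc,
    Iso.inv_hom_id, Category.comp_id]

theorem eq_of_one_add_eq {m : WithBot ℕ∞} {d : ℕ} (h : ((d + 1 : ℕ) : WithBot ℕ∞) = 1 + m) : m = (d : WithBot ℕ∞) := by
  induction m using WithBot.recBotCoe with
  | bot => simp at h
  | coe m =>
    have h' : (((d + 1 : ℕ) : ℕ∞) : WithBot ℕ∞) = ((1 + m : ℕ∞) : WithBot ℕ∞) := h
    rw [WithBot.coe_inj] at h'
    induction m using ENat.recTopCoe with
    | top => simp at h'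
    | coe n =>
      norm_cast at h'
      have : n = d := by omega
      subst this
      rfl

/-- A smooth connected unipotent group of dimension `d` over a finite field with `q` elements has `q ^ d`
points. -/
theorem card_pts [Finite k] (kb : Type u) [Field kb] [Algebra k kb] [IsAlgClosure k kb] (d : ℕ) :
    ∀ (U : Over (Spec (CommRingCat.of k))) [GrpObj U] [IsAffine U.left] [Smooth U.hom] [ConnectedSpace U.left],
      Red.HasNoSubtorus kb (GalTw.bcK kb U) → topologicalKrullDim ↥U.left = (d : WithBot ℕ∞) →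
      Nat.card (SGA7.Pts k U) = Nat.card k ^ d := by
  haveI : IsAlgClosed kb := IsAlgClosure.isAlgClosed k
  haveI : Algebra.IsAlgebraic k kb := IsAlgClosure.isAlgebraic
  haveI : Normal k kb := IsAlgClosure.normal k kb
  haveI : IsGalois k kb := ⟨⟩
  letI := Fintype.ofFinite k
  let π₀ : kb ≃ₐ[k] kb := FiniteField.frobeniusAlgEquivOfAlgebraic k kb
  have hπ : ∀ x : kb, π₀ x = x ^ Nat.card k := fun x => by rw [Nat.card_eq_fintype_card]; rfl
  obtain ⟨hGa, hGl, hGq⟩ := ga_facts (k := k)
  haveI := hGa; haveI := hGl; haveI := hGq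
  induction d with
  | zero =>
    intro U _ _ _ _ hno hd
    rcases exists_hom_ga kb U hno with hiso | ⟨f, hf, hfs, hfk⟩
    · rw [pow_zero, Nat.card_eq_one_iff_unique]
      refine ⟨⟨fun x y => Over.OverMorphism.ext ((cancel_mono U.hom).1 ((Over.w x).trans (Over.w y).symm))⟩, ⟨1⟩⟩
    · exfalso
      obtain ⟨B, _, b, _, -, -, -, hBc, -, hdim, -, -⟩ := exists_kernel_component kb f
      rw [hd, dim_ga] at hdim
      haveI := hBc
      haveI : Nonempty (TopologicalSpace.IrreducibleCloseds ↥B.left) :=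
        ⟨⟨closure {Classical.arbitrary ↥B.left}, isIrreducible_singleton.closure, isClosed_closure⟩⟩
      have hB0 : (0 : WithBot ℕ∞) ≤ topologicalKrullDim ↥B.left := Order.krullDim_nonneg
      have := add_le_add_left hB0 (1 : WithBot ℕ∞)
      simp only [add_comm, zero_add] at this hdim
      rw [← hdim] at this
      exact absurd this (by simp)
  | succ d ih =>
    intro U _ _ _ _ hno hd
    rcases exists_hom_ga kb U hno with hiso | ⟨f, hf, hfs, hfk⟩
    · exfalso
      haveI : IsIso U.hom := hiso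
      have h0 : topologicalKrullDim ↥U.left = 0 := by
        refine (IsHomeomorph.topologicalKrullDim_eq _ (Scheme.homeoOfIso (asIso U.hom)).isHomeomorph).trans ?_
        show topologicalKrullDim (PrimeSpectrum k) = 0
        rw [PrimeSpectrum.topologicalKrullDim_eq_ringKrullDim, ringKrullDim_eq_zero_of_field]
      rw [h0] at hd
      have hd' : ((d + 1 : ℕ) : WithBot ℕ∞) = ((0 : ℕ) : WithBot ℕ∞) := by rw [← hd, Nat.cast_zero]
      exact absurd (Nat.cast_injective hd') (Nat.succ_ne_zero d)
    obtain ⟨B, hB, b, hb, hbc, hBs, hBa, hBconn, hbf, hdim, hnorm, hfin⟩ := exists_kernel_component kb f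
    haveI := hb; haveI := hbc; haveI := hBs; haveI := hBa; haveI := hBconn
    rw [hd, dim_ga] at hdim
    have hBd := eq_of_one_add_eq hdim
    haveI : Mono b := Over.mono_of_mono_left b
    have hBno : Red.HasNoSubtorus kb (GalTw.bcK kb B) := fun T _ j _ _ hT => by
      let m : GalTw.bcK kb B ⟶ GalTw.bcK kb U := (Over.pullback _).map b
      haveI : IsMonHom m := inferInstanceAs (IsMonHom ((Over.pullback _).map b))
      haveI : Mono m := inferInstanceAs (Mono ((Over.pullback _).map b))
      exact hno T (j ≫ m) hT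
    have ihB := ih B hBno hBd
    haveI : Finite (SGA7.Pts k (Red.Ga (Spec (CommRingCat.of k)))) := Finite.of_injective _ (ga_pts_bijective k).1
    haveI : Finite {x : SGA7.Pts kb (Red.Ga (Spec (CommRingCat.of k))) // π₀ • x = x} := by
      refine (Equiv.finite_iff ?_).2 ‹Finite (SGA7.Pts k (Red.Ga (Spec (CommRingCat.of k))))›
      exact ((Equiv.ofBijective _ (StackCountLib.fixed_bijective (L' := kb) (Red.Ga (Spec (CommRingCat.of k))))).trans
        (Equiv.subtypeEquivRight fun x => ⟨fun h => h π₀, fun h σ => frob_fix π₀ hπ (Red.Ga (Spec (CommRingCat.of k))) x h σ⟩)).symm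
    let fb := GalTw.ptsMap (K := kb) b
    let φ : ∀ (Y : Over (Spec (CommRingCat.of k))) [GrpObj Y], SGA7.Pts kb Y →* SGA7.Pts kb Y :=
      fun Y _ => MulDistribMulAction.toMonoidHom _ π₀
    haveI : fb.range.Normal := ⟨fun n hn g => by
      obtain ⟨z, rfl⟩ := hn
      obtain ⟨z', hz'⟩ := hnorm g z
      exact ⟨z', hz'⟩⟩
    haveI := hf
    haveI : Finite {x : SGA7.Pts kb (Red.Ga (Spec (CommRingCat.of k))) // φ (Red.Ga (Spec (CommRingCat.of k))) x = x} :=
      ‹Finite {x : SGA7.Pts kb (Red.Ga (Spec (CommRingCat.of k))) // π₀ • x = x}›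
    let ff : SGA7.Pts kb U →* SGA7.Pts kb (Red.Ga (Spec (CommRingCat.of k))) := GalTw.ptsMap (K := kb) f
    have hff : Function.Surjective ff := hfk
    have h := card_fixed_eq (U := SGA7.Pts kb U) (N := SGA7.Pts kb (Red.Ga (Spec (CommRingCat.of k)))) (φ U)
      (φ (Red.Ga (Spec (CommRingCat.of k)))) ff hff (fun x => GalTw.ptsMap_smul (K := kb) f π₀ x) fb.range
      (by rintro _ ⟨z, rfl⟩; exact ⟨π₀ • z, GalTw.ptsMap_smul (K := kb) b π₀ z⟩)
      (by
        rintro _ ⟨z, rfl⟩
        show (z ≫ b) ≫ f = 1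
        rw [Category.assoc, hbf, MonObj.comp_one])
      (by
        obtain ⟨F, hF, hFx⟩ := hfin
        refine ⟨F, hF, fun x hx => ?_⟩
        obtain ⟨y, hy, z, hz⟩ := hFx x hx
        exact ⟨y, hy, z, hz⟩)
      (fun u => exists_lang k kb π₀ hπ U u)
      (by
        rintro _ ⟨z, rfl⟩
        obtain ⟨c, hc⟩ := exists_lang k kb π₀ hπ B z
        refine ⟨fb c, ⟨c, rfl⟩, ?_⟩
        show fb c * (π₀ • fb c)⁻¹ = fb z
        rw [← GalTw.ptsMap_smul (K := kb) b π₀ c, ← map_inv, ← map_mul, hc])
    have hfb : Function.Injective fb := fun z z' hz => (cancel_mono b).1 hz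
    have eB : Nat.card {x : fb.range // π₀ • (x : SGA7.Pts kb U) = x} = Nat.card {z : SGA7.Pts kb B // π₀ • z = z} := by
      refine Nat.card_congr ((MonoidHom.ofInjective hfb).toEquiv.subtypeEquiv fun z => ?_).symm
      show π₀ • z = z ↔ π₀ • fb z = fb z
      rw [← GalTw.ptsMap_smul (K := kb) b π₀ z]
      exact hfb.eq_iff.symm
    have eU : Nat.card {x : SGA7.Pts kb U // φ U x = x} = Nat.card (SGA7.Pts k U) := card_fixed π₀ hπ U
    have eQ : Nat.card {x : SGA7.Pts kb (Red.Ga (Spec (CommRingCat.of k))) // φ (Red.Ga (Spec (CommRingCat.of k))) x = x} = Nat.card k :=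
      (card_fixed π₀ hπ (Red.Ga (Spec (CommRingCat.of k)))).trans (Nat.card_eq_of_bijective _ (ga_pts_bijective k))
    rw [eU, eQ] at h
    rw [h, pow_succ]
    congr 1
    exact eB.trans ((card_fixed π₀ hπ B).trans ihB)

end UnipCountLib
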