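import Mathlib

/-!
# Counting fixed points of an endomorphism along an exact sequence
-/

set_option autoImplicit false
set_option linter.all false

universe u v

namespace UnipCountLib

/-- Fixed points multiply along an extension when the Lang maps are surjective. -/
theorem card_fixed_eq {U : Type u} [Group U] {N : Type v} [Group N] (φ : U →* U) (φN : N →* N) (f : U →* N)
    (hf : Function.Surjective f) (hcomm : ∀ x, f (φ x) = φN (f x)) (B : Subgroup U) [B.Normal]
    (hBφ : ∀ b ∈ B, φ b ∈ B) (hBker : B ≤ f.ker)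
    (hfin : ∃ F : Set U, F.Finite ∧ ∀ x ∈ f.ker, ∃ y ∈ F, y⁻¹ * x ∈ B)
    (hLU : ∀ u : U, ∃ x, x * (φ x)⁻¹ = u) (hLB : ∀ b ∈ B, ∃ c ∈ B, c * (φ c)⁻¹ = b)
    [Finite {x : N // φN x = x}] :
    Nat.card {x : U // φ x = x} = Nat.card {b : B // φ b = b} * Nat.card {x : N // φN x = x} := by
  classical
  let φQ : U ⧸ B →* U ⧸ B := QuotientGroup.map B B φ hBφ
  let fQ : U ⧸ B →* N := QuotientGroup.lift B f hBker
  have hfQ : Function.Surjective fQ := fun n => by obtain ⟨x, rfl⟩ := hf n; exact ⟨x, rfl⟩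
  have hcQ : ∀ q, fQ (φQ q) = φN (fQ q) := fun q => by
    induction q using QuotientGroup.induction_on with
    | _ x => exact hcomm x
  have hLQ : ∀ q : U ⧸ B, ∃ p, p * (φQ p)⁻¹ = q := fun q => by
    induction q using QuotientGroup.induction_on with
    | _ u => obtain ⟨x, rfl⟩ := hLU u; exact ⟨x, rfl⟩
  haveI : Finite fQ.ker := by
    obtain ⟨F, hF, hFx⟩ := hfin
    haveI := hF.to_subtype
    have h : ∀ q : fQ.ker, ∃ y : F, ((y : U) : U ⧸ B) = q := by
      rintro ⟨q, hq⟩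
      induction q using QuotientGroup.induction_on with
      | _ x =>
        obtain ⟨y, hy, hyB⟩ := hFx x hq
        exact ⟨⟨y, hy⟩, QuotientGroup.eq.2 hyB⟩
    choose g hg using h
    exact Finite.of_injective g fun a b hab => Subtype.ext (by rw [← hg a, ← hg b, hab])
  choose sec hsec using hLQ
  -- the preimage of the kernel under the Lang map, counted in two ways
  have e1 : {q : U ⧸ B // q * (φQ q)⁻¹ ∈ fQ.ker} ≃ fQ.ker × {q : U ⧸ B // φQ q = q} :=
    { toFun := fun q => (⟨_, q.2⟩, ⟨(sec (q.1 * (φQ q.1)⁻¹))⁻¹ * q.1, by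
        have h := hsec (q.1 * (φQ q.1)⁻¹)
        rw [mul_inv_eq_iff_eq_mul] at h
        conv_rhs => rw [h]
        rw [map_mul, map_inv]
        group⟩)
      invFun := fun p => ⟨sec p.1 * p.2, by
        rw [map_mul, p.2.2, mul_inv_rev, mul_assoc, mul_inv_cancel_left, hsec]
        exact p.1.2⟩
      left_inv := fun q => Subtype.ext (mul_inv_cancel_left _ _)
      right_inv := fun ⟨a, b⟩ => by
        have hL : sec a.1 * b.1 * (φQ (sec a.1 * b.1))⁻¹ = a.1 := by
          rw [map_mul, b.2, mul_inv_rev, mul_assoc, mul_inv_cancel_left, hsec]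
        refine Prod.ext (Subtype.ext hL) (Subtype.ext ?_)
        show (sec (sec a.1 * b.1 * (φQ (sec a.1 * b.1))⁻¹))⁻¹ * (sec a.1 * b.1) = b.1
        rw [hL, inv_mul_cancel_left] }
  choose σ hσ using hfQ
  have hiff : ∀ q, q * (φQ q)⁻¹ ∈ fQ.ker ↔ φN (fQ q) = fQ q := fun q => by
    rw [MonoidHom.mem_ker, map_mul, map_inv, hcQ, mul_inv_eq_one, eq_comm]
  have e2 : {q : U ⧸ B // q * (φQ q)⁻¹ ∈ fQ.ker} ≃ fQ.ker × {x : N // φN x = x} :=
    { toFun := fun q => (⟨(σ (fQ q.1))⁻¹ * q.1, by rw [MonoidHom.mem_ker, map_mul, map_inv, hσ, inv_mul_cancel]⟩,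
        ⟨fQ q.1, (hiff _).1 q.2⟩)
      invFun := fun p => ⟨σ p.2 * p.1, (hiff _).2 (by rw [map_mul, hσ, p.1.2, mul_one, p.2.2])⟩
      left_inv := fun q => Subtype.ext (mul_inv_cancel_left _ _)
      right_inv := fun ⟨a, b⟩ => by
        have h : fQ (σ b.1 * a.1) = b.1 := by rw [map_mul, hσ, a.2, mul_one]
        refine Prod.ext (Subtype.ext ?_) (Subtype.ext h)
        show (σ (fQ (σ b.1 * a.1)))⁻¹ * (σ b.1 * a.1) = a.1
        rw [h, inv_mul_cancel_left] }
  have hQ : Nat.card {q : U ⧸ B // φQ q = q} = Nat.card {x : N // φN x = x} := by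
    have := Nat.card_congr (e1.symm.trans e2)
    rw [Nat.card_prod, Nat.card_prod] at this
    exact mul_left_cancel₀ Nat.card_pos.ne' this
  rw [← hQ, ← Nat.card_prod]
  have hlift : ∀ q : {q : U ⧸ B // φQ q = q}, ∃ x : U, φ x = x ∧ (x : U ⧸ B) = q := fun ⟨q, hq⟩ => by
    induction q using QuotientGroup.induction_on with
    | _ u =>
      have hb : u * (φ u)⁻¹ ∈ B := by
        rw [← QuotientGroup.eq_one_iff, QuotientGroup.mk_mul, QuotientGroup.mk_inv, mul_inv_eq_one]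
        exact hq.symm
      obtain ⟨d, hd, hd'⟩ := hLB _ hb
      refine ⟨d⁻¹ * u, ?_, ?_⟩
      · calc φ (d⁻¹ * u) = d⁻¹ * (d * (φ d)⁻¹) * φ u := by rw [map_mul, map_inv, inv_mul_cancel_left]
          _ = d⁻¹ * u := by rw [hd', mul_assoc, inv_mul_cancel_right]
      · rw [QuotientGroup.mk_mul, QuotientGroup.mk_inv, (QuotientGroup.eq_one_iff d).2 hd, inv_one, one_mul]
  choose s hs hs' using hlift
  have hfix : ∀ x : {x : U // φ x = x}, φQ (x.1 : U ⧸ B) = (x.1 : U ⧸ B) := fun x => congrArg (fun y : U => (y : U ⧸ B)) x.2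
  refine Nat.card_congr
    { toFun := fun x => (⟨⟨x.1 * (s ⟨_, hfix x⟩)⁻¹, by
          rw [← QuotientGroup.eq_one_iff, QuotientGroup.mk_mul, QuotientGroup.mk_inv, hs', mul_inv_cancel]⟩,
        by show φ (x.1 * _⁻¹) = x.1 * _⁻¹; rw [map_mul, map_inv, x.2, hs]⟩, ⟨_, hfix x⟩)
      invFun := fun p => ⟨p.1.1.1 * s p.2, by rw [map_mul, hs]; exact congrArg (· * s p.2) p.1.2⟩
      left_inv := fun x => Subtype.ext (inv_mul_cancel_right _ _)
      right_inv := fun ⟨⟨b, hb⟩, q⟩ => by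
        have h : ((b.1 * s q : U) : U ⧸ B) = q.1 := by
          rw [QuotientGroup.mk_mul, (QuotientGroup.eq_one_iff b.1).2 b.2, one_mul, hs']
        have hq : (⟨((b.1 * s q : U) : U ⧸ B), hfix ⟨_, by rw [map_mul, hs]; exact congrArg (· * s q) hb⟩⟩ : {q : U ⧸ B // φQ q = q}) = q :=
          Subtype.ext h
        refine Prod.ext (Subtype.ext (Subtype.ext ?_)) (Subtype.ext h)
        show b.1 * s q * (s _)⁻¹ = b.1
        rw [hq, mul_inv_cancel_right] }

end UnipCountLib
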