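import Groth.Agent.LangGenLib.Lang
import Groth.Agent.LangGenLib.Pts

/-!
# Lang's theorem on geometric points
-/

set_option autoImplicit false
set_option linter.all false
set_option backward.isDefEq.respectTransparency false
set_option backward.isDefEq.respectTransparency.types false

noncomputable section

universe u

open CategoryTheory CategoryTheory.Limits MonoidalCategory CartesianMonoidalCategory MonObj AlgebraicGeometry

namespace UnipCountLib

attribute [-instance] CategoryTheory.Hom.commGroup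

open StackCountLib.BC (e e_nat)

/-- Lang's theorem on geometric points. -/
theorem exists_lang (k : Type u) [Field k] [Finite k] (kb : Type u) [Field kb] [Algebra k kb] [IsAlgClosed kb]
    (π₀ : kb ≃ₐ[k] kb) (hπ : ∀ x : kb, π₀ x = x ^ Nat.card k)
    (G : Over (Spec (CommRingCat.of k))) [GrpObj G] [Smooth G.hom] [QuasiCompact G.hom] [ConnectedSpace G.left]
    (a : SGA7.Pts kb G) : ∃ x : SGA7.Pts kb G, x * (π₀ • x)⁻¹ = a := by
  obtain ⟨fr, hfr⟩ := LangGenLib.exists_isFrob k
  let ptm := Spec.map (CommRingCat.ofHom (algebraMap k kb))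
  let j : (Over.map ptm).obj (𝟙_ (Over (Spec (CommRingCat.of kb)))) ≅ SGA7.pt (K := k) kb :=
    Over.isoMk (Iso.refl _) (by
      show 𝟙 _ ≫ ptm = 𝟙 _ ≫ ptm
      rfl)
  obtain ⟨g, hg⟩ := LangGenLib.exists_lang_bc kb hfr G (𝟙 (Red.bc ptm G)) (e _ (j.hom ≫ a))
  rw [Category.comp_id] at hg
  have hm : ∀ (g g' : 𝟙_ (Over (Spec (CommRingCat.of kb))) ⟶ Red.bc ptm G),
      (e _).symm (g * g') = (e _).symm g * (e _).symm g' := fun g g' => by
    rw [Equiv.symm_apply_eq, AlgGrp.Action.homEquiv_mul, Equiv.apply_symm_apply, Equiv.apply_symm_apply]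
  have hinv : ∀ (g : 𝟙_ (Over (Spec (CommRingCat.of kb))) ⟶ Red.bc ptm G), (e _).symm g⁻¹ = ((e _).symm g)⁻¹ :=
    fun g => eq_inv_of_mul_eq_one_left (by rw [← hm, inv_mul_cancel, Equiv.symm_apply_eq, StackCountLib.BC.e_one])
  have hn : (e _).symm (g ≫ (Over.pullback ptm).map (fr G)) = (e _).symm g ≫ fr G :=
    (Over.mapPullbackAdj ptm).homEquiv_naturality_right_symm g (fr G)
  have h := congrArg (e (𝟙_ (Over (Spec (CommRingCat.of kb))))).symm hg
  rw [Equiv.symm_apply_apply, hm, hinv, hn] at h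
  refine ⟨j.inv ≫ (e _).symm g, (cancel_epi j.hom).1 ?_⟩
  rw [LangGenLib.IsFrob.smul_eq hfr hπ, MonObj.comp_mul, GrpObj.comp_inv, Category.assoc, Iso.hom_inv_id_assoc,
    Iso.hom_inv_id_assoc]
  exact h

end UnipCountLib
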