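import Groth.Agent.S16062
import Groth.Agent.StackCountLib.TwistPts
import Groth.Agent.UnipCountLib.Card
import Groth.Agent.ExtGmLib.Basic
import Groth.Agent.AlbLib.Torus
import Groth.Agent.PurInsLib.QuotUnip
import Groth.Agent.SepRadLib.Descent
import Groth.Agent.FibDimLib.FieldExt
import Groth.Prelude.Def_StkCnt

/-!
# The form of a normal subgroup twisted by conjugation
-/

set_option autoImplicit false
set_option linter.all false
set_option backward.isDefEq.respectTransparency false
set_option backward.isDefEq.respectTransparency.types false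
set_option maxHeartbeats 1000000
set_option synthInstance.maxHeartbeats 400000

noncomputable section

universe u

open CategoryTheory CategoryTheory.Limits MonoidalCategory CartesianMonoidalCategory MonObj AlgebraicGeometry
open Groth.Agent

attribute [-instance] CategoryTheory.Hom.commGroup

namespace UnipCountLib

open StackCountLib (down up up_down down_comp down_id down_twHom down_map)

variable {k : Type u} [Field k]

/-- A normal subgroup carries the conjugation action of another subgroup. -/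
theorem exists_conj_action {G H U : Over (Spec (CommRingCat.of k))} [GrpObj G] [GrpObj H] [GrpObj U]
    (iH : H ⟶ G) (iU : U ⟶ G) [IsMonHom iH] [IsMonHom iU] [Mono iU] (hUn : AlgGrp.IsNormalHom iU) :
    ∃ c : AlgGrp.Action H U, c.act ≫ iU = (fst H U ≫ iH) * (snd H U ≫ iU) * (fst H U ≫ iH)⁻¹ := by
  obtain ⟨c, hc⟩ := hUn (H ⊗ U) (fst H U ≫ iH) (snd H U)
  have key : ∀ {T : Over (Spec (CommRingCat.of k))} (h : T ⟶ H) (u : T ⟶ U),
      (lift h u ≫ c) ≫ iU = (h ≫ iH) * (u ≫ iU) * (h ≫ iH)⁻¹ := fun {T} h u => by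
    rw [Category.assoc, ← hc]
    simp only [MonObj.comp_mul, GrpObj.comp_inv, lift_fst_assoc, lift_snd_assoc]
  have hl : ∀ {T A B : Over (Spec (CommRingCat.of k))} (x : T ⟶ A ⊗ B), x = lift (x ≫ fst A B) (x ≫ snd A B) :=
    fun x => by rw [← comp_lift, lift_fst_snd, Category.comp_id]
  refine ⟨⟨c, ?_, ?_⟩, hc.symm⟩
  · rw [← cancel_mono iU, hl (η[H] ▷ U), key, whiskerRight_fst, whiskerRight_snd, Category.assoc,
      IsMonHom.one_hom, toUnit_unique (fst (𝟙_ _) U) (toUnit _), ← Hom.one_def, _root_.one_mul, inv_one,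
      _root_.mul_one, leftUnitor_hom]
  · have hμ : μ[H] = fst H H * snd H H := by rw [Hom.mul_def, lift_fst_snd, Category.id_comp]
    rw [← cancel_mono iU, hl (μ[H] ▷ U), key, ← Category.assoc, hl ((α_ H H U).hom ≫ H ◁ c), key,
      whiskerRight_fst, whiskerRight_snd, hμ]
    simp only [Category.assoc, whiskerLeft_fst, whiskerLeft_snd]
    have e : (α_ H H U).hom ≫ snd H (H ⊗ U) = lift (fst (H ⊗ H) U ≫ snd H H) (snd (H ⊗ H) U) := by
      rw [hl ((α_ H H U).hom ≫ snd H (H ⊗ U))]
      simp
    rw [show (α_ H H U).hom ≫ snd H (H ⊗ U) ≫ c ≫ iU = (((α_ H H U).hom ≫ snd H (H ⊗ U)) ≫ c) ≫ iU by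
      simp only [Category.assoc], e, key, associator_hom_fst_assoc, MonObj.mul_comp, MonObj.comp_mul,
      Category.assoc, mul_inv_rev]
    group

variable {K : Type u} [Field K] [Algebra k K]

local notation "pK" => SGA7.pt (K := k) K

theorem down_actK {H X : Over (Spec (CommRingCat.of k))} [GrpObj H] (a : AlgGrp.Action H X) (g : SGA7.Pts K H) :
    down (GalTw.actK K a g) = lift (snd X pK ≫ g) (fst X pK) ≫ a.act :=
  Over.OverMorphism.ext (pullback.lift_fst _ _ _)

theorem down_ext {X Y : Over (Spec (CommRingCat.of k))} {f f' : GalTw.bcK K X ⟶ GalTw.bcK K Y}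
    (h : down f = down f') : f = f' := by
  rw [← up_down f, h, up_down]

theorem actK_comp {H X : Over (Spec (CommRingCat.of k))} [GrpObj H] (a : AlgGrp.Action H X) (g g' : SGA7.Pts K H) :
    GalTw.actK K a g' ≫ GalTw.actK K a g = GalTw.actK K a (g * g') := by
  refine down_ext ?_
  rw [StackCountLib.down_comp, down_actK, down_actK, down_actK, ← Category.assoc, comp_lift, lift_snd_assoc, lift_fst,
    MonObj.comp_mul, Hom.mul_def]
  have h := congrArg (lift (lift (snd X pK ≫ g) (snd X pK ≫ g')) (fst X pK) ≫ ·) a.mul_act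
  simp only [← Category.assoc, lift_whiskerRight] at h
  rw [h]
  congr 1
  refine CartesianMonoidalCategory.hom_ext _ _ ?_ ?_
  · simp
  · simp

theorem actK_one {H X : Over (Spec (CommRingCat.of k))} [GrpObj H] (a : AlgGrp.Action H X) :
    GalTw.actK K a (1 : SGA7.Pts K H) = 𝟙 _ := by
  refine down_ext ?_
  rw [down_actK, down_id, MonObj.comp_one, Hom.one_def]
  have h := congrArg (lift (toUnit (X ⊗ pK)) (fst X pK) ≫ ·) a.one_act
  simp only [← Category.assoc, lift_whiskerRight] at h
  rw [h]
  simp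

theorem twHom_actK {H X : Over (Spec (CommRingCat.of k))} [GrpObj H] (a : AlgGrp.Action H X) (σ : K ≃ₐ[k] K)
    (g : SGA7.Pts K H) : GalTw.twHom σ (GalTw.actK K a g) = GalTw.actK K a (σ • g) := by
  refine down_ext ?_
  rw [down_twHom, down_actK, down_actK, ← Category.assoc, comp_lift, whiskerLeft_fst, whiskerLeft_snd_assoc,
    GalTw.pts_smul_def]

theorem down_innK {G : Over (Spec (CommRingCat.of k))} [GrpObj G] (g : SGA7.Pts K G) :
    down (GalTw.innK K g) = (snd G pK ≫ g) * fst G pK * (snd G pK ≫ g)⁻¹ := by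
  have hs : down (toUnit (GalTw.bcK K G) ≫ GalTw.secOfPt K g) = snd G pK ≫ g := by
    refine Over.OverMorphism.ext ?_
    show ((toUnit (GalTw.bcK K G)).left ≫ (GalTw.secOfPt K g).left) ≫ pullback.fst _ _ = pullback.snd _ _ ≫ g.left
    rw [Category.assoc, GalTw.secOfPt_left, pullback.lift_fst]
    rfl
  show StackCountLib.downHom (K := K) _ = _
  rw [GalTw.innK, map_mul, map_mul, map_inv]
  show down _ * down (𝟙 _) * (down _)⁻¹ = _
  rw [hs, down_id]

variable {G H U : Over (Spec (CommRingCat.of k))} [GrpObj G] [GrpObj H] [GrpObj U]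
  (iH : H ⟶ G) (iU : U ⟶ G) [IsMonHom iU] [Mono iU] (c : AlgGrp.Action H U)
  (hc : c.act ≫ iU = (fst H U ≫ iH) * (snd H U ≫ iU) * (fst H U ≫ iH)⁻¹)

include hc in
theorem isMonHom_actK (g : SGA7.Pts K H) : IsMonHom (GalTw.actK K c g) := by
  let m : GalTw.bcK K U ⟶ GalTw.bcK K G := (GalTwLib.bcF k K).map iU
  haveI : IsMonHom m := inferInstanceAs (IsMonHom ((GalTwLib.bcF k K).map iU))
  haveI : Mono m := inferInstanceAs (Mono ((GalTwLib.bcF k K).map iU))
  have e : GalTw.actK K c g ≫ m = m ≫ GalTw.innK K (g ≫ iH) := by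
    refine down_ext ?_
    have hd : down m = fst U pK ≫ iU := by
      have := down_map (𝟙 (GalTw.bcK K U)) iU
      rw [Category.id_comp] at this
      exact this.trans (by rw [down_id])
    rw [down_map, down_actK, Category.assoc, hc, StackCountLib.down_comp, hd, down_innK]
    simp only [MonObj.comp_mul, GrpObj.comp_inv, lift_fst_assoc, lift_snd_assoc, lift_fst, Category.assoc]
  refine ExtGm.isMonHom_of_mul _ fun Z a b => (cancel_mono m).1 ?_
  rw [MonObj.mul_comp (f₁ := a ≫ GalTw.actK K c g), Category.assoc, Category.assoc, Category.assoc, e,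
    reassoc_of% (MonObj.mul_comp (f₁ := a) (f₂ := b) (g := m))]
  simp only [GalTw.innK, MonObj.comp_mul, GrpObj.comp_inv, Category.comp_id, toUnit_unique _ (toUnit Z),
    reassoc_of% (toUnit_unique ((a ≫ m) ≫ toUnit (GalTw.bcK K G)) (toUnit Z))]
  simp only [← Category.assoc, toUnit_unique _ (toUnit Z)]
  group

include hc in
/-- The points of the subgroup fixed by a twisted Galois action are those of a form, hence `q ^ d` in number. -/
theorem card_twisted [Finite k] (kb : Type u) [Field kb] [Algebra k kb] [IsAlgClosure k kb] (ι₀ : K →ₐ[k] kb)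
    [FiniteDimensional k K] [IsGalois k K] [IsAffine U.left] [Smooth U.hom] [ConnectedSpace U.left]
    (hno : Red.HasNoSubtorus kb (GalTw.bcK kb U)) (d : ℕ) (hd : topologicalKrullDim ↥U.left = (d : WithBot ℕ∞))
    (z : GpH1.OneCocycle (K ≃ₐ[k] K) (SGA7.Pts K H)) :
    Nat.card {u : SGA7.Pts K U // ∀ σ : K ≃ₐ[k] K, lift (z σ) (σ • u) ≫ c.act = u} = Nat.card k ^ d := by
  let act : SGA7.Pts K H →* Aut (GalTw.bcK K U) := MonoidHom.mk'
    (fun g => ⟨GalTw.actK K c g, GalTw.actK K c g⁻¹, by rw [actK_comp, inv_mul_cancel, actK_one],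
      by rw [actK_comp, mul_inv_cancel, actK_one]⟩)
    (fun g g' => Iso.ext (by
      show GalTw.actK K c (g * g') = GalTw.actK K c g' ≫ GalTw.actK K c g
      rw [actK_comp]))
  let a : GpH1.OneCocycle (K ≃ₐ[k] K) (Aut (GalTw.bcK K U)) := ⟨fun σ => act (z σ), fun σ τ => by
    show act (z (σ * τ)) = act (z σ) * σ • act (z τ)
    rw [z.2, map_mul]
    congr 1
    exact Iso.ext (twHom_actK c σ (z τ)).symm⟩
  obtain ⟨U', hU', hU'a, hU'l, φ, hφm, hφ⟩ := GalTwLib.exists_isGrpTwist (G₀ := U) a
    (fun σ => isMonHom_actK iH iU c hc (z σ))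
  haveI := hU'a; haveI := hU'l; haveI := hφm
  let t : Spec (CommRingCat.of K) ⟶ Spec (CommRingCat.of k) := Spec.map (CommRingCat.ofHom (algebraMap k K))
  let φ' : Red.bc t U' ≅ Red.bc t U := φ
  haveI hm' : IsMonHom φ'.hom := hφm
  haveI : IsIso φ'.hom.left := ((Over.forget _).mapIso φ').isIso_hom
  haveI : Smooth (Red.bc t U).hom := inferInstanceAs (Smooth (pullback.snd U.hom t))
  have hσ : (@Surjective ⊓ @Flat ⊓ @QuasiCompact : MorphismProperty Scheme) t := by
    refine ⟨⟨⟨fun p => ⟨(IsLocalRing.closedPoint K : PrimeSpectrum K),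
      Subsingleton.elim (α := PrimeSpectrum k) _ _⟩⟩, ?_⟩, inferInstance⟩
    exact (HasRingHomProperty.Spec_iff (P := @Flat)).2 (RingHom.flat_algebraMap_iff.mpr inferInstance)
  haveI : Smooth U'.hom := MorphismProperty.of_pullback_snd_of_descendsAlong (P := @Smooth) hσ (by
    show Smooth (Red.bc t U').hom
    rw [← Over.w φ'.hom]
    infer_instance)
  haveI : ConnectedSpace U'.left := by
    haveI : IsIso φ'.inv.left := ((Over.forget _).mapIso φ').isIso_inv
    haveI : ConnectedSpace (Red.bc t U).left := Groth.Agent.SepRad.connectedSpace_bc U t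
    haveI : Surjective (pullback.fst U'.hom t) := MorphismProperty.pullback_fst (P := @Surjective) _ _ hσ.1.1
    haveI : ConnectedSpace (Red.bc t U').left :=
      (φ'.inv.left.homeomorph.surjective.connectedSpace φ'.inv.left.homeomorph.continuous)
    haveI : ConnectedSpace ↥(pullback U'.hom t) := ‹ConnectedSpace (Red.bc t U').left›
    exact (pullback.fst U'.hom t).surjective.connectedSpace (pullback.fst U'.hom t).continuous
  have hd' : topologicalKrullDim ↥U'.left = (d : WithBot ℕ∞) := by
    rw [← FibDimLib.topologicalKrullDim_pullback_field k K U'.hom, ← hd,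
      ← FibDimLib.topologicalKrullDim_pullback_field k K U.hom]
    exact IsHomeomorph.topologicalKrullDim_eq _ (Scheme.homeoOfIso ((Over.forget _).mapIso φ')).isHomeomorph
  haveI : IsAffine U'.left := hU'a
  have hno' : Red.HasNoSubtorus kb (GalTw.bcK kb U') := by
    let g : Spec (CommRingCat.of kb) ⟶ Spec (CommRingCat.of K) := Spec.map (CommRingCat.ofHom ι₀.toRingHom)
    have hg : g ≫ t = Spec.map (CommRingCat.ofHom (algebraMap k kb)) := by
      rw [← Spec.map_comp, ← CommRingCat.ofHom_comp]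
      exact congrArg (fun r => Spec.map (CommRingCat.ofHom r)) ι₀.comp_algebraMap
    have hno₀ : Red.HasNoSubtorus kb (Red.bc (g ≫ t) U) := by rw [hg]; exact hno
    suffices h : Red.HasNoSubtorus kb (Red.bc (g ≫ t) U') by rw [hg] at h; exact h
    obtain ⟨e, he⟩ := AlbLib.exists_bc_comp g t U'
    obtain ⟨e', he'⟩ := AlbLib.exists_bc_comp g t U
    haveI := he; haveI := he'
    haveI : IsMonHom ((Over.pullback g).map φ'.hom) := inferInstanceAs (IsMonHom ((Over.pullback g).map φ'.hom))
    haveI : IsMonHom e'.inv := inferInstance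
    exact PurInsLib.hasNoSubtorus_of_iso (e.hom ≫ (Over.pullback g).map φ'.hom ≫ e'.inv) hno₀
  obtain ⟨eP⟩ := StackCountLib.pts_actTwist (Y := U') c z ⟨φ, fun σ => by
    rw [hφ]; rfl⟩
  rw [← Nat.card_congr eP]
  exact card_pts kb d U' hno' hd'

end UnipCountLib
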